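import Groth.Agent.DiagTorLib.AssocAlg
import Groth.Agent.KoszPowLib.Basic
import Groth.Agent.TorSESLib.Basic
import Groth.Agent.S2103
import Groth.Agent.RegImmKindLib.KindFlat
import Mathlib.RingTheory.MvPolynomial.Homogeneous
import Mathlib.Data.Finsupp.Antidiagonal
import Mathlib.Algebra.BigOperators.Fin

/-!
# `Tor` of the powers of a Koszul regular ideal against a Tor-independent algebra
-/

set_option autoImplicit false
set_option backward.isDefEq.respectTransparency false
set_option backward.isDefEq.respectTransparency.types false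

universe u

open CategoryTheory CategoryTheory.Limits HomologicalComplex

noncomputable section

namespace TorKPowLib

variable {A : Type u} [CommRing A] {A' : Type u} [CommRing A'] [Algebra A A']

theorem nonempty_restrict_iso : ∀ l : List A,
    Nonempty (CohIII.koszulCx (ModuleCat.of A A') l ≅
      ((ModuleCat.restrictScalars (algebraMap A A')).mapHomologicalComplex (ComplexShape.up ℤ)).obj
        (Koszul.koszul A' (l.map (algebraMap A A'))))
  | [] =>
    let i0 : ModuleCat.of A A' ≅ (ModuleCat.restrictScalars (algebraMap A A')).obj (ModuleCat.of A' A') :=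
      LinearEquiv.toModuleIso
        (X₂ := (ModuleCat.restrictScalars (algebraMap A A')).obj (ModuleCat.of A' A'))
        { toFun := fun x => x
          invFun := fun x => x
          left_inv := fun _ => rfl
          right_inv := fun _ => rfl
          map_add' := fun _ _ => rfl
          map_smul' := fun a x => Algebra.smul_def a x }
    ⟨(single (ModuleCat.{u} A) (ComplexShape.up ℤ) 0).mapIso i0 ≪≫
      ((singleMapHomologicalComplex (ModuleCat.restrictScalars (algebraMap A A')) (ComplexShape.up ℤ) 0).app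
        (ModuleCat.of A' A')).symm⟩
  | f :: l => by
    obtain ⟨e⟩ := nonempty_restrict_iso l
    let G := (ModuleCat.restrictScalars (algebraMap A A')).mapHomologicalComplex (ComplexShape.up ℤ)
    let K := Koszul.koszul A' (l.map (algebraMap A A'))
    have h : f • 𝟙 (G.obj K) = G.map (algebraMap A A' f • 𝟙 K) := by
      refine HomologicalComplex.Hom.ext (funext fun i => ?_)
      apply ModuleCat.hom_ext
      exact LinearMap.ext fun x => rfl
    refine ⟨KoszTenLib.coneMapIso e f ≪≫ eqToIso (congrArg (fun φ => CochainComplex.mappingCone φ) h) ≪≫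
      (CochainComplex.mappingCone.mapHomologicalComplexIso _ _).symm⟩

theorem isZero_tor_quot {l : List A} (hl : LCI.IsKoszulRegularSeq A l)
    (hl' : LCI.IsKoszulRegularSeq A' (l.map (algebraMap A A'))) (q : ℕ) (hq : 0 < q) :
    IsZero (((CategoryTheory.Tor (ModuleCat.{u} A) q).obj (ModuleCat.of A (A ⧸ Groth.Agent.KoszChiLib.Idl l))).obj
      (ModuleCat.of A A')) := by
  obtain ⟨e⟩ := DiagTorLib.nonempty_tor_koszul l hl A' q
  obtain ⟨e1⟩ := KoszPowLib.nonempty_T_iso (ModuleCat.of A A') l
  obtain ⟨e2⟩ := nonempty_restrict_iso (A' := A') l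
  have hz : IsZero (Groth.Agent.KoszChiLib.H l (ModuleCat.of A A') (-(q : ℤ))) := by
    refine IsZero.of_iso ?_ ((homologyFunctor (ModuleCat.{u} A) (ComplexShape.up ℤ) (-(q : ℤ))).mapIso (e1 ≪≫ e2) ≪≫
      ((Koszul.koszul A' (l.map (algebraMap A A'))).sc (-(q : ℤ))).mapHomologyIso
        (ModuleCat.restrictScalars (algebraMap A A')))
    exact Functor.map_isZero _ (hl' _ (by omega))
  exact IsZero.of_iso hz e.toModuleIso

theorem isZero_tor_pi (M N : Type u) [AddCommGroup M] [Module A M] [AddCommGroup N] [Module A N]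
    (i : ℕ) (hi : 0 < i)
    (h : IsZero (((CategoryTheory.Tor (ModuleCat.{u} A) i).obj (ModuleCat.of A M)).obj (ModuleCat.of A N))) :
    ∀ k : ℕ, IsZero (((CategoryTheory.Tor (ModuleCat.{u} A) i).obj (ModuleCat.of A (Fin k → M))).obj (ModuleCat.of A N))
  | 0 => TorSESLib.isZero_tor_of_flat (ModuleCat.of A N) (ModuleCat.of A (Fin 0 → M)) hi
  | k + 1 => by
    let f : M →ₗ[A] (Fin (k + 1) → M) := LinearMap.single A (fun _ => M) 0
    let g : (Fin (k + 1) → M) →ₗ[A] (Fin k → M) := LinearMap.funLeft A M Fin.succ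
    let S : ShortComplex (ModuleCat.{u} A) := ShortComplex.moduleCatMk f g
      (LinearMap.ext fun x => funext fun j => by simp [f, g, LinearMap.funLeft_apply, Pi.single_eq_of_ne])
    have hS : S.ShortExact :=
      { exact := (ShortComplex.ShortExact.moduleCat_exact_iff_function_exact _).2 (by
          intro x
          constructor
          · intro hx
            refine ⟨x 0, funext fun j => ?_⟩
            cases j using Fin.cases with
            | zero =>
              show f (x 0) 0 = x 0
              simp [f]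
            | succ j =>
              have h1 : x j.succ = 0 := congrFun hx j
              show f (x 0) j.succ = x j.succ
              simp [f, h1, Pi.single_eq_of_ne]
          · rintro ⟨y, rfl⟩
            funext j
            show g (f y) j = 0
            simp [f, g, LinearMap.funLeft_apply, Pi.single_eq_of_ne])
        mono_f := (ModuleCat.mono_iff_injective _).2 (Pi.single_injective (M := fun _ : Fin (k + 1) => M) 0)
        epi_g := (ModuleCat.epi_iff_surjective _).2
          (LinearMap.funLeft_surjective_of_injective A M Fin.succ (Fin.succ_injective k)) }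
    exact TorSESLib.isZero_tor_middle S (ModuleCat.of A N) hS i h (isZero_tor_pi M N i hi h k)

open MvPolynomial in
theorem exists_homogeneous_eval {c : ℕ} (f : Fin c → A) (J : Ideal A) (hJ : J = Ideal.span (Set.range f)) :
    ∀ (n : ℕ) (x : A), x ∈ J ^ n → ∃ P : MvPolynomial (Fin c) A, P.IsHomogeneous n ∧ eval f P = x := by
  intro n
  induction n with
  | zero => exact fun x _ => ⟨C x, isHomogeneous_C _ x, eval_C x⟩
  | succ n ih =>
    intro x hx
    rw [pow_succ] at hx
    induction hx using Submodule.mul_induction_on' with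
    | mem_mul_mem a ha b hb =>
      obtain ⟨P, hP, rfl⟩ := ih a ha
      rw [hJ, Ideal.mem_span_range_iff_exists_fun] at hb
      obtain ⟨r, rfl⟩ := hb
      exact ⟨P * ∑ i, C (r i) * X i, hP.mul (IsHomogeneous.sum _ _ _ fun i _ => (isHomogeneous_X A i).C_mul _),
        by simp [map_sum]⟩
    | add a ha b hb iha ihb =>
      obtain ⟨P, hP, rfl⟩ := iha
      obtain ⟨Q, hQ, rfl⟩ := ihb
      exact ⟨P + Q, hP.add hQ, map_add _ P Q⟩

open MvPolynomial in
theorem exists_gr_equiv {c : ℕ} (f : Fin c → A) (hf : CAlgX.IsQuasiRegular f) (J : Ideal A)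
    (hJ : J = Ideal.span (Set.range f)) (n : ℕ) :
    ∃ k : ℕ, Nonempty ((↥(J ^ n) ⧸ Submodule.comap (J ^ n).subtype (J ^ (n + 1))) ≃ₗ[A] (Fin k → A ⧸ J)) := by
  classical
  let ι := ↥((Finset.univ : Finset (Fin c)).finsuppAntidiag n)
  have hdeg : ∀ d : ι, (d.1 : Fin c →₀ ℕ).degree = n := fun d => by
    rw [Finsupp.degree_eq_sum]; exact (Finset.mem_finsuppAntidiag.1 d.2).1
  have hsum : ∀ a : ι → A, (∑ d : ι, monomial (d.1 : Fin c →₀ ℕ) (a d)).IsHomogeneous n := fun a =>
    IsHomogeneous.sum _ _ _ fun d _ => isHomogeneous_monomial _ (hdeg d)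
  have hevalmem : ∀ P : MvPolynomial (Fin c) A, P.IsHomogeneous n → eval f P ∈ J ^ n := by
    intro P hP
    rw [eval_eq]
    refine sum_mem fun d hd => Ideal.mul_mem_left _ _ ?_
    have h1 : ∏ i ∈ d.support, f i ^ d i ∈ J ^ (∑ i ∈ d.support, d i) := by
      rw [← Finset.prod_pow_eq_pow_sum]
      exact Ideal.prod_mem_prod fun i _ => Ideal.pow_mem_pow (hJ ▸ Ideal.subset_span (Set.mem_range_self i)) _
    have h2 : ∑ i ∈ d.support, d i = n := by
      rw [← Finsupp.degree_apply]
      exact hP.degree_eq_sum_deg_support hd |>.symm ▸ rfl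
    rwa [h2] at h1
  let L : (ι → A) →ₗ[A] MvPolynomial (Fin c) A :=
    ∑ d : ι, (MvPolynomial.monomial (d.1 : Fin c →₀ ℕ)).comp (LinearMap.proj d)
  have hL : ∀ a, L a = ∑ d : ι, monomial (d.1 : Fin c →₀ ℕ) (a d) := fun a => by
    simp [L, LinearMap.sum_apply]
  let Ψ : (ι → A) →ₗ[A] (↥(J ^ n) ⧸ Submodule.comap (J ^ n).subtype (J ^ (n + 1))) :=
    (Submodule.mkQ _).comp (LinearMap.codRestrict (J ^ n)
      ((MvPolynomial.aeval f).toLinearMap.comp L) fun a => by
        show MvPolynomial.aeval f (L a) ∈ J ^ n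
        rw [hL, aeval_eq_eval]
        exact hevalmem _ (hsum a))
  have hcoeff : ∀ (a : ι → A) (d : ι), coeff (d.1 : Fin c →₀ ℕ) (L a) = a d := fun a d => by
    rw [hL, coeff_sum, Finset.sum_eq_single d]
    · rw [coeff_monomial, if_pos rfl]
    · exact fun e _ he => by rw [coeff_monomial, if_neg fun h => he (Subtype.ext h)]
    · exact fun h => absurd (Finset.mem_univ _) h
  have hker : LinearMap.ker Ψ = LinearMap.ker ((Submodule.mkQ J).compLeft ι) := by
    ext a
    simp only [LinearMap.mem_ker, Ψ, LinearMap.comp_apply, Submodule.mkQ_apply, Submodule.Quotient.mk_eq_zero,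
      Submodule.mem_comap, funext_iff, LinearMap.compLeft_apply, Function.comp_apply, Pi.zero_apply]
    show MvPolynomial.aeval f (L a) ∈ J ^ (n + 1) ↔ _
    constructor
    · intro h d
      have := hf n (L a) (hL a ▸ hsum a) (by rw [← hJ, ← aeval_eq_eval]; exact h) d.1
      rwa [hcoeff, ← hJ] at this
    · intro h
      rw [hL, map_sum]
      refine sum_mem fun d _ => ?_
      rw [aeval_monomial, Algebra.algebraMap_self, RingHom.id_apply, pow_succ']
      refine Ideal.mul_mem_mul (h d) ?_
      have := hevalmem (monomial (d.1 : Fin c →₀ ℕ) 1) (isHomogeneous_monomial _ (hdeg d))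
      rwa [eval_monomial, one_mul] at this
  have hsurj : Function.Surjective Ψ := by
    intro y
    obtain ⟨⟨x, hx⟩, rfl⟩ := Submodule.Quotient.mk_surjective _ y
    obtain ⟨P, hP, rfl⟩ := exists_homogeneous_eval f J hJ n x hx
    refine ⟨fun d => coeff d.1 P, congrArg Submodule.Quotient.mk (Subtype.ext ?_)⟩
    show MvPolynomial.aeval f (L _) = eval f P
    rw [aeval_eq_eval]
    refine congrArg (eval f) (MvPolynomial.ext _ _ fun e => ?_)
    by_cases he : e.degree = n
    · exact hcoeff _ (⟨e, Finset.mem_finsuppAntidiag.2 ⟨by rw [← he, Finsupp.degree_eq_sum], Finset.subset_univ _⟩⟩ : ι)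
    · rw [(hL _ ▸ hsum _ : (L fun d => coeff d.1 P).IsHomogeneous n).coeff_eq_zero he, hP.coeff_eq_zero he]
  refine ⟨Fintype.card ι, ⟨((LinearMap.quotKerEquivOfSurjective Ψ hsurj).symm.trans
    ((Submodule.quotEquivOfEq _ _ hker).trans (LinearMap.quotKerEquivOfSurjective _
      (J.mkQ_surjective.comp_left)))).trans (LinearEquiv.funCongrLeft A (A ⧸ J) (Fintype.equivFin ι).symm)⟩⟩

theorem main {c : ℕ} (f : Fin c → A) (hf : LCI.IsKoszulRegularSeq A (List.ofFn f))
    (hf' : LCI.IsKoszulRegularSeq A' ((List.ofFn f).map (algebraMap A A'))) (J : Ideal A)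
    (hJ : J = Ideal.span (Set.range f)) (n i : ℕ) (hi : 1 ≤ i) :
    IsZero (((CategoryTheory.Tor (ModuleCat.{u} A) i).obj (ModuleCat.of A ↥(J ^ n))).obj (ModuleCat.of A A')) ∧
    IsZero (((CategoryTheory.Tor (ModuleCat.{u} A) i).obj (ModuleCat.of A
      (↥(J ^ n) ⧸ Submodule.comap (J ^ n).subtype (J ^ (n + 1))))).obj (ModuleCat.of A A')) := by
  have hqr : CAlgX.IsQuasiRegular f := Groth.Agent.S2103.result f
    (RegImmKindLib.isH1Regular_of_isExactK (KoszDetLib.isExactK_of_isKoszulRegularSeq f hf))
  have hgr : ∀ n i, 1 ≤ i → IsZero (((CategoryTheory.Tor (ModuleCat.{u} A) i).obj (ModuleCat.of A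
      (↥(J ^ n) ⧸ Submodule.comap (J ^ n).subtype (J ^ (n + 1))))).obj (ModuleCat.of A A')) := by
    intro n i hi
    obtain ⟨k, ⟨e⟩⟩ := exists_gr_equiv f hqr J hJ n
    have h := isZero_tor_quot hf hf' i hi
    rw [show Groth.Agent.KoszChiLib.Idl (List.ofFn f) = J by
      rw [hJ]; exact congrArg Ideal.span (Set.ext fun x => by simp [List.mem_ofFn])] at h
    exact (isZero_tor_pi (A ⧸ J) A' i hi h k).of_iso
      (((CategoryTheory.Tor (ModuleCat.{u} A) i).mapIso e.toModuleIso).app (ModuleCat.of A A'))
  refine ⟨?_, hgr n i hi⟩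
  induction n generalizing i with
  | zero =>
    let e : A ≃ₗ[A] ↥(J ^ 0) :=
      Submodule.topEquiv.symm.trans (LinearEquiv.ofEq _ _ (by rw [pow_zero, Ideal.one_eq_top]))
    haveI : Module.Flat A ↥(J ^ 0) := Module.Flat.of_linearEquiv e.symm
    exact TorSESLib.isZero_tor_of_flat (ModuleCat.of A A') (ModuleCat.of A ↥(J ^ 0)) hi
  | succ n ih =>
    let f₁ : ↥(J ^ (n + 1)) →ₗ[A] ↥(J ^ n) := Submodule.inclusion (Ideal.pow_le_pow_right n.le_succ)
    let S : ShortComplex (ModuleCat.{u} A) := ShortComplex.moduleCatMk f₁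
      (Submodule.mkQ (Submodule.comap (J ^ n).subtype (J ^ (n + 1))))
      (LinearMap.ext fun x => (Submodule.Quotient.mk_eq_zero _).2 x.2)
    have hS : S.ShortExact :=
      { exact := (ShortComplex.ShortExact.moduleCat_exact_iff_function_exact _).2 (by
          intro x
          constructor
          · intro hx
            exact ⟨⟨x.1, Submodule.mem_comap.1 ((Submodule.Quotient.mk_eq_zero _).1 hx)⟩, rfl⟩
          · rintro ⟨y, rfl⟩
            exact (Submodule.Quotient.mk_eq_zero _).2 y.2)
        mono_f := (ModuleCat.mono_iff_injective _).2 (Submodule.inclusion_injective (Ideal.pow_le_pow_right n.le_succ))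
        epi_g := (ModuleCat.epi_iff_surjective _).2 (Submodule.mkQ_surjective _) }
    exact TorSESLib.isZero_tor_left S (ModuleCat.of A A') hS i (ih i hi) (hgr n (i + 1) (by omega))

end TorKPowLib
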